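import Groth.Agent.Fano.K475.RatClass

/-!
# Rank of embedded rational curves (S2, S4 of `Fano.K470.PlanHilb`)

* `three_le_finrank`: the coefficient vectors of a separating parametrisation of degree `d ≥ 2` without base points
  span a subspace of dimension at least three (any algebraically closed field);
* `EmbSet f d`: coefficients of embedded rational curves on `V_+(f)`; `rank_emb`; `deg_of_isPar`.
-/

set_option autoImplicit false
universe u
open CategoryTheory CategoryTheory.Limits AlgebraicGeometry TopologicalSpace Opposite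

namespace K501.RankEmb

open Groth.Agent.Fano.K714.Rat K475.RatAlg K475.RatClass

variable {k : Type u} [Field k]

theorem three_le_finrank [IsAlgClosed k] {d : ℕ} (hd : 2 ≤ d) {c : Fin (d + 1) → Fin 5 → k}
    (hs : Sep c) (hn : Nz c) : 3 ≤ Module.finrank k ↥(Submodule.span k (Set.range c)) := by
  by_contra hlt
  have hle : Module.finrank k ↥(Submodule.span k (Set.range c)) ≤ 2 := by omega
  let i0 : Fin (d + 1) := ⟨0, by omega⟩
  let i1 : Fin (d + 1) := ⟨1, by omega⟩
  have e0 : ∀ j, ev c ![(1 : k), 0] j = c i0 j := by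
    intro j
    rw [ev, Finset.sum_eq_single i0]
    · simp [i0]
    · intro m _ hm
      have : (m : ℕ) ≠ 0 := fun h => hm (Fin.ext h)
      simp [this]
    · intro h; exact absurd (Finset.mem_univ _) h
  have hb0 : (![(1 : k), 0] : Fin 2 → k) ≠ 0 := fun h => one_ne_zero (congrFun h 0)
  have h0 : c i0 ≠ 0 := by
    obtain ⟨j, hj⟩ := hn _ hb0
    rw [e0] at hj
    exact fun h => hj (by rw [h]; rfl)
  by_cases h1 : c i1 ∈ Submodule.span k {c i0}
  · obtain ⟨y, hy⟩ := Submodule.mem_span_singleton.1 h1
    have h2 := false_of_tangent hs hn (b := ![1, 0]) (w := ![0, 1]) (x := y) (y := -1) hb0 (by simp) (fun j => by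
      have h3 : dv c ![1, 0] ![0, 1] j = c i1 j := by
        rw [dv, Finset.sum_eq_single i1]
        · simp [i1]
        · intro m _ hm
          have h4 : (m : ℕ) ≠ 1 := fun h => hm (Fin.ext h)
          rcases Nat.eq_zero_or_pos (m : ℕ) with h5 | h5
          · simp [h5]
          · have h6 : (m : ℕ) - 1 ≠ 0 := by omega
            simp [h6]
        · intro h; exact absurd (Finset.mem_univ _) h
      rw [e0, h3, ← hy]
      simp)
    exact one_ne_zero (neg_eq_zero.1 h2.2)
  · have hsp : Submodule.span k (Set.range c) ≤ Submodule.span k {c i1, c i0} := by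
      have hli : LinearIndependent k ![c i1, c i0] := by
        rw [LinearIndependent.pair_iff]
        intro a b hab
        have ha : a = 0 := by
          by_contra ha
          apply h1
          rw [Submodule.mem_span_singleton]
          refine ⟨-(a⁻¹ * b), ?_⟩
          have h2 : a • c i1 = -(b • c i0) := eq_neg_of_add_eq_zero_left hab
          rw [neg_smul, mul_smul, ← smul_neg, ← h2, smul_smul, inv_mul_cancel₀ ha, one_smul]
        subst ha
        rw [zero_smul, zero_add] at hab
        exact ⟨rfl, (smul_eq_zero.1 hab).resolve_right h0⟩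
      have h2 : Submodule.span k (Set.range ![c i1, c i0]) = Submodule.span k (Set.range c) := by
        apply Submodule.eq_of_le_of_finrank_le
        · apply Submodule.span_mono
          rintro _ ⟨i, rfl⟩
          fin_cases i
          exacts [⟨i1, rfl⟩, ⟨i0, rfl⟩]
        · rw [finrank_span_eq_card hli, Fintype.card_fin]
          exact hle
      rw [← h2, Matrix.range_cons, Matrix.range_cons, Matrix.range_empty, Set.union_empty, Set.singleton_union]
    have h3 : ∀ m, ∃ x y : k, x • c i1 + y • c i0 = c m := fun m =>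
      Submodule.mem_span_pair.1 (hsp (Submodule.subset_span ⟨m, rfl⟩))
    choose x y hxy using h3
    have hx1 : x i1 ≠ 0 := by
      intro h
      apply h1
      rw [Submodule.mem_span_singleton]
      refine ⟨y i1, ?_⟩
      rw [← hxy i1, h, zero_smul, zero_add]
    let p : Polynomial k := ∑ m : Fin (d + 1), Polynomial.C (x m) * Polynomial.X ^ (d - (m : ℕ))
    have hcoeff : p.coeff (d - 1) = x i1 := by
      change (∑ m : Fin (d + 1), Polynomial.C (x m) * Polynomial.X ^ (d - (m : ℕ))).coeff (d - 1) = _
      rw [Polynomial.finsetSum_coeff, Finset.sum_eq_single i1]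
      · rw [Polynomial.coeff_C_mul_X_pow, if_pos rfl]
      · intro m _ hm
        have h4 : (m : ℕ) ≠ 1 := fun h => hm (Fin.ext h)
        rw [Polynomial.coeff_C_mul_X_pow, if_neg]
        have := m.2
        omega
      · intro h; exact absurd (Finset.mem_univ _) h
    have hdeg : p.degree ≠ 0 := by
      intro h
      have h4 : p.coeff (d - 1) = 0 := by
        apply Polynomial.coeff_eq_zero_of_degree_lt
        rw [h]
        exact_mod_cast (by omega : 0 < d - 1)
      exact hx1 (hcoeff.symm.trans h4)
    obtain ⟨a, ha⟩ := IsAlgClosed.exists_root p hdeg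
    have hpa : ∑ m : Fin (d + 1), x m * a ^ (d - (m : ℕ)) = 0 := by
      have h4 : p.eval a = 0 := ha
      simpa [p, Polynomial.eval_finsetSum] using h4
    have h5 := false_of_points hs hn (b := ![a, 1]) (b' := ![1, 0]) (x := 1)
      (y := -∑ m : Fin (d + 1), y m * a ^ (d - (m : ℕ))) (by intro h; simpa using congrFun h 1) hb0 (by simp)
      (fun j => by
        rw [e0, ev_one]
        have h6 : ∀ m, c m j = x m * c i1 j + y m * c i0 j := fun m => (congrFun (hxy m) j).symm
        have h7 : ∑ m : Fin (d + 1), c m j * a ^ (d - (m : ℕ)) =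
            (∑ m : Fin (d + 1), x m * a ^ (d - (m : ℕ))) * c i1 j +
              (∑ m : Fin (d + 1), y m * a ^ (d - (m : ℕ))) * c i0 j := by
          rw [Finset.sum_mul, Finset.sum_mul, ← Finset.sum_add_distrib]
          refine Finset.sum_congr rfl fun m _ => ?_
          rw [h6 m]
          ring
        rw [h7, hpa]
        ring)
    exact one_ne_zero h5.1

/-- coefficient systems of embedded rational curves of degree `d` on `V_+(f)` (not necessarily linearly independent) -/
def EmbSet (f : LefPen.Form 4 k 3) (d : ℕ) : Set (Fin (d + 1) → Fin 5 → k) :=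
  {c | (∀ s t : k, MvPolynomial.eval (cpt c s t) f.1 = 0) ∧
    ∃ i : CohB1.ProjSpace 1 k ⟶ Xf f, IsPar f d c i ∧ IsClosedImmersion i}

/-- parametrised closed immersions are separating without base points -/
theorem sep_nz {f : LefPen.Form 4 k 3} {d : ℕ} {c : Fin (d + 1) → Fin 5 → k}
    {i : CohB1.ProjSpace 1 k ⟶ Xf f} (hi : IsPar f d c i) [Mono i] : Sep c ∧ Nz c := by
  have hr : (i ≫ emb f) ≫ CohB1.ProjSpace.toSpec 4 k = CohB1.ProjSpace.toSpec 1 k := by
    rw [Category.assoc]; exact hi.1
  have hm : Mono (i ≫ emb f) := mono_comp _ _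
  exact ⟨sep hr hi.2, nz hr hi.2⟩

/-- NODE S2: embedded curves of degree at least two span at least a plane -/
theorem rank_emb [IsAlgClosed k] [CharZero k] (f : LefPen.Form 4 k 3) {d : ℕ} (hd : 2 ≤ d)
    {c : Fin (d + 1) → Fin 5 → k} (hc : c ∈ EmbSet f d) :
    3 ≤ Module.finrank k ↥(Submodule.span k (Set.range c)) := by
  obtain ⟨-, i, hi, hci⟩ := hc
  obtain ⟨h1, h2⟩ := sep_nz hi
  exact three_le_finrank hd h1 h2

/-- NODE S4: conversely, a parametrised closed immersion has degree `d` -/
theorem deg_of_isPar [IsAlgClosed k] [CharZero k] (f : LefPen.Form 4 k 3) {d : ℕ} {c : Fin (d + 1) → Fin 5 → k}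
    {i : CohB1.ProjSpace 1 k ⟶ Xf f} (hi : IsPar f d c i) :
    Nonempty ((Scheme.Modules.pullback (i ≫ emb f)).obj (Twist.twistProjSpace 4 k 1) ≅
      Twist.twistProjSpace 1 k (d : ℤ)) := by
  obtain ⟨τ, -⟩ := hi.2
  exact ⟨τ⟩

end K501.RankEmb
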